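import Mathlib
import Mathlib.RingTheory.MvPolynomial.Basic
import Mathlib.LinearAlgebra.FiniteDimensional.Lemmas
import Mathlib.LinearAlgebra.Dual.Lemmas
import Mathlib.Algebra.Order.Antidiag.Nat
import Mathlib.LinearAlgebra.Dimension.Constructions

/-!
# Forms vanishing at finitely many points of projective space
-/

noncomputable section

universe u

namespace Groth.Agent.PlanePts

open MvPolynomial in
theorem finrank_hom (k : Type u) [Field k] (r t : ℕ) :
    Module.finrank k (homogeneousSubmodule (Fin (r + 1)) k t) = Nat.choose (t + r) r := by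
  classical
  let s := (Finset.univ : Finset (Fin (r + 1))).finsuppAntidiag t
  have hs : ∀ e : Fin (r + 1) →₀ ℕ, e ∈ s ↔ e.degree = t := fun e => by
    simp only [s, Finset.mem_finsuppAntidiag, Finset.subset_univ, and_true, Finsupp.degree_eq_sum]
  have hspan : homogeneousSubmodule (Fin (r + 1)) k t =
      Submodule.span k (Set.range fun e : s => monomial e.1 (1 : k)) := by
    refine le_antisymm (fun P hP => ?_) (Submodule.span_le.2 ?_)
    · rw [as_sum P]
      refine Submodule.sum_mem _ fun e he => ?_
      have hem : e.degree = t := by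
        rw [Finsupp.degree_eq_weight_one]
        exact hP (mem_support_iff.1 he)
      rw [show monomial e (P.coeff e) = P.coeff e • monomial e (1 : k) by
        rw [smul_monomial, smul_eq_mul, mul_one]]
      exact Submodule.smul_mem _ _ (Submodule.subset_span ⟨⟨e, (hs e).2 hem⟩, rfl⟩)
    · rintro _ ⟨e, rfl⟩
      exact isHomogeneous_monomial 1 ((hs e.1).1 e.2)
  have hli : LinearIndependent k (fun e : s => monomial e.1 (1 : k)) :=
    ((basisMonomials (Fin (r + 1)) k).linearIndependent.comp (fun e : s => e.1) Subtype.val_injective : _)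
  rw [hspan, finrank_span_eq_card hli, Fintype.card_coe, Finset.card_finsuppAntidiag_nat_eq_choose,
    Finset.card_univ, Fintype.card_fin, show r + 1 + t - 1 = t + r by omega]
  exact Nat.choose_symm_of_eq_add rfl

open MvPolynomial

variable {k : Type u} [Field k] {r : ℕ}

/-- The linear form of a functional. -/
def linForm (ℓ : (Fin r → k) →ₗ[k] k) : MvPolynomial (Fin r) k :=
  ∑ i, C (ℓ (Pi.single i 1)) * X i

lemma isHomogeneous_linForm (ℓ : (Fin r → k) →ₗ[k] k) : (linForm ℓ).IsHomogeneous 1 :=
  IsHomogeneous.sum _ _ _ fun _ _ => isHomogeneous_C_mul_X _ _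

lemma aeval_linForm (ℓ : (Fin r → k) →ₗ[k] k) (v : Fin r → k) : aeval v (linForm ℓ) = ℓ v := by
  conv_rhs => rw [pi_eq_sum_univ' v, map_sum]
  simp [linForm, map_smul, mul_comm]

lemma exists_functional {w v : Fin r → k} (h : v ∉ Submodule.span k {w}) :
    ∃ ℓ : (Fin r → k) →ₗ[k] k, ℓ w = 0 ∧ ℓ v ≠ 0 := by
  obtain ⟨ℓ, hv, hℓ⟩ := Submodule.exists_dual_map_eq_bot_of_notMem h inferInstance
  refine ⟨ℓ, ?_, hv⟩
  have : ℓ w ∈ Submodule.map ℓ (Submodule.span k {w}) :=
    Submodule.mem_map_of_mem (Submodule.mem_span_singleton_self w)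
  rwa [hℓ, Submodule.mem_bot] at this

/-- A form of degree `card s` vanishing on `s` but not at `v`. -/
lemma exists_form (s : Finset (Fin r → k)) (v : Fin r → k)
    (h : ∀ w ∈ s, v ∉ Submodule.span k {w}) :
    ∃ F : MvPolynomial (Fin r) k, F.IsHomogeneous s.card ∧ (∀ w ∈ s, aeval w F = 0) ∧
      aeval v F ≠ 0 := by
  classical
  choose ℓ hw hv using fun w : s => exists_functional (h w.1 w.2)
  refine ⟨∏ w : s, linForm (ℓ w), ?_, fun w hws => ?_, ?_⟩
  · simpa using IsHomogeneous.prod (Finset.univ : Finset s) (fun w => linForm (ℓ w)) (fun _ => 1)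
      fun w _ => isHomogeneous_linForm _
  · rw [map_prod]
    exact Finset.prod_eq_zero (Finset.mem_univ ⟨w, hws⟩) (by rw [aeval_linForm, hw])
  · rw [map_prod]
    exact Finset.prod_ne_zero_iff.2 fun w _ => by rw [aeval_linForm]; exact hv w

lemma notMem_span_singleton {v w : Fin r → k} (h : LinearIndependent k ![v, w]) :
    v ∉ Submodule.span k {w} := by
  intro hv
  obtain ⟨c, hc⟩ := Submodule.mem_span_singleton.1 hv
  have := (LinearIndependent.pair_iff.1 h) 1 (-c) (by simp [hc])
  exact one_ne_zero this.1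

end Groth.Agent.PlanePts
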